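import Mathlib

/-!
# Finite rotation groups: counting poles

A finite group acts on a finite set of axes so that every non-trivial element fixes exactly one axis
pointwise, the pointwise stabiliser of an axis having index at most two in its stabiliser.  Without a
fixed axis the element orders are at most five.
-/

set_option autoImplicit false

namespace Cfsg.Lib.Linear.FrameNine

/-- Two terms of the pole equation. -/
theorem poles_two {g O1 O2 c1 c2 f1 f2 : ℕ} (h1 : g = f1 * (c1 * O1)) (h2 : g = f2 * (c2 * O2))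
    (hf1 : f1 = 1 ∨ f1 = 2) (hf2 : f2 = 1 ∨ f2 = 2) (hc1 : 2 ≤ c1) (hc2 : 2 ≤ c2)
    (hO1 : 2 ≤ O1) (hO2 : 2 ≤ O2) (he : O1 * (c1 - 1) + O2 * (c2 - 1) + 1 = g) :
    c1 ≤ 3 ∧ c2 ≤ 3 := by
  have e1 : O1 * (c1 - 1) + O1 = c1 * O1 := by
    obtain ⟨c, rfl⟩ : ∃ c, c1 = c + 1 := ⟨c1 - 1, by omega⟩
    rw [Nat.add_sub_cancel]; ring
  have e2 : O2 * (c2 - 1) + O2 = c2 * O2 := by
    obtain ⟨c, rfl⟩ : ∃ c, c2 = c + 1 := ⟨c2 - 1, by omega⟩
    rw [Nat.add_sub_cancel]; ring
  have l1 := Nat.mul_le_mul_right O1 hc1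
  have l2 := Nat.mul_le_mul_right O2 hc2
  rcases hf1 with rfl | rfl <;> rcases hf2 with rfl | rfl
  · exfalso; omega
  · have hc1' : c1 ≤ 3 := by
      by_contra h
      have := Nat.mul_le_mul_right O1 (show 4 ≤ c1 by omega)
      omega
    refine ⟨hc1', ?_⟩
    by_contra h
    have := Nat.mul_le_mul_right O2 (show 4 ≤ c2 by omega)
    interval_cases c1 <;> omega
  · have hc2' : c2 ≤ 3 := by
      by_contra h
      have := Nat.mul_le_mul_right O2 (show 4 ≤ c2 by omega)
      omega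
    refine ⟨?_, hc2'⟩
    by_contra h
    have := Nat.mul_le_mul_right O1 (show 4 ≤ c1 by omega)
    interval_cases c2 <;> omega
  · exfalso; omega

/-- All stabilisers of index two: the first being of order two. -/
theorem poles_three_aux {g O1 O2 O3 c1 c2 c3 : ℕ} (h1 : g = 2 * (c1 * O1)) (h2 : g = 2 * (c2 * O2))
    (h3 : g = 2 * (c3 * O3)) (hc : c1 = 2) (hc2 : 2 ≤ c2) (hc3 : 2 ≤ c3) (hO2 : 2 ≤ O2)
    (hO3 : 2 ≤ O3) (hs : 2 * (O1 + O2 + O3) = g + 2) :
    (c2 = 3 ∧ c3 ≤ 5) ∨ (c3 = 3 ∧ c2 ≤ 5) := by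
  subst hc
  have a2 : c2 = 2 → False := fun h => by subst h; omega
  have a3 : c3 = 2 → False := fun h => by subst h; omega
  by_cases b2 : c2 = 3
  · refine Or.inl ⟨b2, ?_⟩
    subst b2
    by_contra h
    have := Nat.mul_le_mul_right O3 (show 6 ≤ c3 by omega)
    omega
  by_cases b3 : c3 = 3
  · refine Or.inr ⟨b3, ?_⟩
    subst b3
    by_contra h
    have := Nat.mul_le_mul_right O2 (show 6 ≤ c2 by omega)
    omega
  exfalso
  have := Nat.mul_le_mul_right O2 (show 4 ≤ c2 by by_contra h; exact a2 (by omega))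
  have := Nat.mul_le_mul_right O3 (show 4 ≤ c3 by by_contra h; exact a3 (by omega))
  omega

/-- Three terms of the pole equation. -/
theorem poles_three {g O1 O2 O3 c1 c2 c3 f1 f2 f3 : ℕ} (h1 : g = f1 * (c1 * O1))
    (h2 : g = f2 * (c2 * O2)) (h3 : g = f3 * (c3 * O3))
    (hf1 : f1 = 1 ∨ f1 = 2) (hf2 : f2 = 1 ∨ f2 = 2) (hf3 : f3 = 1 ∨ f3 = 2)
    (hc1 : 2 ≤ c1) (hc2 : 2 ≤ c2) (hc3 : 2 ≤ c3) (hO1 : 2 ≤ O1) (hO2 : 2 ≤ O2) (hO3 : 2 ≤ O3)
    (he : O1 * (c1 - 1) + O2 * (c2 - 1) + O3 * (c3 - 1) + 1 = g) :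
    c1 ≤ 5 ∧ c2 ≤ 5 ∧ c3 ≤ 5 ∧ ((c1 = 4 ∨ c2 = 4 ∨ c3 = 4) → c1 ≠ 5 ∧ c2 ≠ 5 ∧ c3 ≠ 5) := by
  have e1 : O1 * (c1 - 1) + O1 = c1 * O1 := by
    obtain ⟨c, rfl⟩ : ∃ c, c1 = c + 1 := ⟨c1 - 1, by omega⟩
    rw [Nat.add_sub_cancel]; ring
  have e2 : O2 * (c2 - 1) + O2 = c2 * O2 := by
    obtain ⟨c, rfl⟩ : ∃ c, c2 = c + 1 := ⟨c2 - 1, by omega⟩
    rw [Nat.add_sub_cancel]; ring
  have e3 : O3 * (c3 - 1) + O3 = c3 * O3 := by
    obtain ⟨c, rfl⟩ : ∃ c, c3 = c + 1 := ⟨c3 - 1, by omega⟩
    rw [Nat.add_sub_cancel]; ring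
  have l1 := Nat.mul_le_mul_right O1 hc1
  have l2 := Nat.mul_le_mul_right O2 hc2
  have l3 := Nat.mul_le_mul_right O3 hc3
  obtain ⟨F1, F2, F3⟩ : f1 = 2 ∧ f2 = 2 ∧ f3 = 2 := by
    rcases hf1 with rfl | rfl <;> rcases hf2 with rfl | rfl <;> rcases hf3 with rfl | rfl <;>
      refine ⟨?_, ?_, ?_⟩ <;> omega
  subst F1 F2 F3
  have hs : 2 * (O1 + O2 + O3) = g + 2 := by omega
  have h' : c1 = 2 ∨ c2 = 2 ∨ c3 = 2 := by
    by_contra h
    have := Nat.mul_le_mul_right O1 (show 3 ≤ c1 by omega)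
    have := Nat.mul_le_mul_right O2 (show 3 ≤ c2 by omega)
    have := Nat.mul_le_mul_right O3 (show 3 ≤ c3 by omega)
    omega
  rcases h' with h | h | h
  · have := poles_three_aux h1 h2 h3 h hc2 hc3 hO2 hO3 hs
    omega
  · have := poles_three_aux h2 h1 h3 h hc1 hc3 hO1 hO3 (by omega)
    omega
  · have := poles_three_aux h3 h1 h2 h hc1 hc2 hO1 hO2 (by omega)
    omega

set_option maxHeartbeats 1000000 in
open Classical in
/-- Element orders of a group with poles and no fixed axis. -/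
theorem poles_orders {G P : Type*} [Group G] [Finite G] [Finite P] [MulAction G P]
    (S : P → Subgroup G) (hle : ∀ p, ∀ g ∈ S p, g • p = p)
    (htwo : ∀ p g h, g • p = p → h • p = p → g ∉ S p → h ∉ S p → g⁻¹ * h ∈ S p)
    (hconj : ∀ (g : G) p, ∀ a ∈ S p, g * a * g⁻¹ ∈ S (g • p))
    (hne : ∀ p, ∃ a ∈ S p, a ≠ 1)
    (hex : ∀ a : G, a ≠ 1 → ∃ p, a ∈ S p)
    (huniq : ∀ a : G, a ≠ 1 → ∀ p q, a ∈ S p → a ∈ S q → p = q)
    (hfix : ∀ p : P, ∃ g : G, g • p ≠ p) :
    (∀ a : G, a ^ 3 = 1 ∨ a ^ 4 = 1 ∨ a ^ 5 = 1) ∧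
      ((∃ b : G, b ^ 4 = 1 ∧ b ^ 2 ≠ 1) → ∀ a : G, a ^ 3 = 1 ∨ a ^ 4 = 1) := by
  have := Fintype.ofFinite G
  have := Fintype.ofFinite P
  set g := Nat.card G with hg
  set c : P → ℕ := fun p => Nat.card (S p) with hc
  have hcinv : ∀ (a : G) p, c (a • p) = c p := by
    intro a p
    exact (Nat.card_congr (show S p ≃ S (a • p) from
      { toFun := fun x => ⟨a * x.1 * a⁻¹, hconj a p _ x.2⟩
        invFun := fun x => ⟨a⁻¹ * x.1 * a, by simpa using hconj a⁻¹ (a • p) _ x.2⟩
        left_inv := fun x => Subtype.ext (by simp [mul_assoc])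
        right_inv := fun x => Subtype.ext (by simp [mul_assoc]) })).symm
  have hc2 : ∀ p, 2 ≤ c p := fun p => by
    obtain ⟨a, ha, ha1⟩ := hne p
    have : Nontrivial (S p) := ⟨⟨⟨a, ha⟩, 1, fun h => ha1 (congrArg Subtype.val h)⟩⟩
    exact Finite.one_lt_card
  -- the orbit of an axis
  have horb : ∀ p, 2 ≤ Nat.card (MulAction.orbit G p) ∧
      ∃ f, (f = 1 ∨ f = 2) ∧ g = f * (c p * Nat.card (MulAction.orbit G p)) := by
    intro p
    constructor
    · obtain ⟨a, ha⟩ := hfix p
      have : Nontrivial (MulAction.orbit G p) :=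
        ⟨⟨⟨p, MulAction.mem_orbit_self p⟩, ⟨a • p, MulAction.mem_orbit p a⟩,
          fun h => ha (congrArg Subtype.val h).symm⟩⟩
      exact Finite.one_lt_card
    have hst : g = Nat.card (MulAction.stabilizer G p) * Nat.card (MulAction.orbit G p) := by
      have h := MulAction.card_orbit_mul_card_stabilizer_eq_card_group G p
      rw [hg, Nat.card_eq_fintype_card, Nat.card_eq_fintype_card, Nat.card_eq_fintype_card, ← h,
        mul_comm]
    have hSle : S p ≤ MulAction.stabilizer G p := fun a ha => MulAction.mem_stabilizer_iff.mpr (hle p a ha)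
    by_cases h : ∀ a : G, a • p = p → a ∈ S p
    · refine ⟨1, Or.inl rfl, ?_⟩
      have e : MulAction.stabilizer G p = S p :=
        le_antisymm (fun a ha => h a (MulAction.mem_stabilizer_iff.mp ha)) hSle
      rw [one_mul, hst, e]
    · push Not at h
      obtain ⟨t, ht, htS⟩ := h
      refine ⟨2, Or.inr rfl, ?_⟩
      have e : Nat.card (MulAction.stabilizer G p) = 2 * c p := by
        rw [Nat.card_congr (show MulAction.stabilizer G p ≃ S p ⊕ S p from
          { toFun := fun x => if hx : x.1 ∈ S p then Sum.inl ⟨x.1, hx⟩ else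
              Sum.inr ⟨t⁻¹ * x.1, htwo p t x.1 ht (MulAction.mem_stabilizer_iff.mp x.2) htS hx⟩
            invFun := Sum.elim (fun x => ⟨x.1, hSle x.2⟩)
              (fun x => ⟨t * x.1, mul_mem (MulAction.mem_stabilizer_iff.mpr ht) (hSle x.2)⟩)
            left_inv := fun x => by by_cases hx : x.1 ∈ S p <;> simp [hx]
            right_inv := fun x => by
              rcases x with x | x
              · simp
              · have : t * x.1 ∉ S p := fun h => htS (by simpa using mul_mem h (inv_mem x.2))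
                simp [this] }), Nat.card_sum]
        ring
      rw [hst, e, mul_assoc]
  -- the pole equation
  have hsum : ∑ p : P, (c p - 1) + 1 = g := by
    have h : Nat.card {a : G // a ≠ 1} = Nat.card (Σ p : P, {a : S p // a ≠ 1}) :=
      Nat.card_congr
        { toFun := fun a => ⟨(hex a.1 a.2).choose, ⟨⟨a.1, (hex a.1 a.2).choose_spec⟩,
            fun h => a.2 (congrArg Subtype.val h)⟩⟩
          invFun := fun x => ⟨x.2.1.1, fun h => x.2.2 (Subtype.ext h)⟩
          left_inv := fun a => rfl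
          right_inv := fun x => by
            obtain ⟨p, ⟨a, ha⟩, hne'⟩ := x
            have ha1 : a ≠ 1 := fun h => hne' (Subtype.ext h)
            obtain rfl := huniq a ha1 p _ ha (hex a ha1).choose_spec
            rfl }
    rw [Nat.card_eq_fintype_card, Fintype.card_subtype_compl, Fintype.card_subtype_eq] at h
    rw [Nat.card_eq_fintype_card, Fintype.card_sigma] at h
    simp only [Fintype.card_subtype_compl, Fintype.card_subtype_eq] at h
    simp only [hc, hg, Nat.card_eq_fintype_card]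
    rw [← h]
    have := Fintype.card_pos (α := G)
    omega
  let O : Type _ := Quotient (MulAction.orbitRel G P)
  have : Fintype O := Fintype.ofFinite O
  set r : O → P := fun o => Quotient.out o with hr
  set sz : O → ℕ := fun o => Nat.card (MulAction.orbit G (r o)) with hsz
  have hterm : ∀ o : O, ∑ p ∈ Finset.univ.filter (fun p => (Quotient.mk _ p : O) = o), (c p - 1) =
      sz o * (c (r o) - 1) := by
    intro o
    have hmk : ∀ p, (Quotient.mk _ p : O) = o ↔ p ∈ MulAction.orbit G (r o) := fun p => by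
      rw [← MulAction.orbitRel_apply, hr]
      conv_lhs => rw [← Quotient.out_eq o]
      exact Quotient.eq
    rw [Finset.sum_congr rfl (g := fun _ => c (r o) - 1) fun p hp => ?_]
    · rw [Finset.sum_const, smul_eq_mul, hsz]
      simp only [Nat.card_eq_fintype_card]
      congr 1
      rw [← Fintype.card_subtype]
      exact Fintype.card_congr (Equiv.subtypeEquivRight hmk)
    · obtain ⟨a, rfl⟩ := (hmk p).mp (Finset.mem_filter.mp hp).2
      rw [hcinv]
  have hsumO : ∑ o : O, sz o * (c (r o) - 1) + 1 = g := by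
    rw [← hsum, ← Finset.sum_fiberwise Finset.univ (fun p => (Quotient.mk _ p : O)) (fun p => c p - 1)]
    exact congrArg (· + 1) (Finset.sum_congr rfl fun o _ => (hterm o).symm)
  have hord : ∀ a : G, a ≠ 1 → ∃ o : O, orderOf a ∣ c (r o) := by
    intro a ha
    obtain ⟨p, hp⟩ := hex a ha
    set op : O := Quotient.mk (MulAction.orbitRel G P) p with hop
    refine ⟨op, ?_⟩
    have hrel : p ∈ MulAction.orbit G (r op) := by
      rw [← MulAction.orbitRel_apply, hr]
      exact ((MulAction.orbitRel G P).symm' (Quotient.exact' (Quotient.out_eq' op)))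
    obtain ⟨b, hb⟩ := hrel
    simp only at hb
    rw [← hcinv b, hb, hc]
    exact (Subgroup.orderOf_mk a hp) ▸ orderOf_dvd_natCard _
  -- at most three orbits
  have hcard : Fintype.card O ≤ 3 := by
    by_contra h
    have h1 : ∀ o : O, g ≤ 4 * (sz o * (c (r o) - 1)) := by
      intro o
      obtain ⟨-, f, hf, e⟩ := horb (r o)
      obtain ⟨d, hd⟩ : ∃ d, c (r o) = d + 2 := ⟨c (r o) - 2, by have := hc2 (r o); omega⟩
      rw [hd] at e ⊢
      rcases hf with rfl | rfl <;> rw [e] <;> simp only [show d + 2 - 1 = d + 1 by omega, hsz] <;>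
        nlinarith
    have h2 := Finset.card_nsmul_le_sum Finset.univ (fun o => 4 * (sz o * (c (r o) - 1))) g
      fun o _ => h1 o
    rw [Finset.card_univ, ← Finset.mul_sum, smul_eq_mul] at h2
    have h4 := Nat.mul_le_mul_right g (show 4 ≤ Fintype.card O by omega)
    omega
  have key : (∀ o : O, c (r o) ≤ 5) ∧
      ((∃ o : O, c (r o) = 4) → ∀ o : O, c (r o) ≠ 5) := by
    have hall : ∀ {a : O}, a ∈ (Finset.univ : Finset O) := fun {a} => Finset.mem_univ a
    rcases Nat.lt_or_ge (Fintype.card O) 2 with h | h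
    · rcases Nat.eq_zero_or_pos (Fintype.card O) with h0 | h0
      · have : IsEmpty O := Fintype.card_eq_zero_iff.mp h0
        exact ⟨fun o => isEmptyElim o, fun _ o => isEmptyElim o⟩
      · exfalso
        obtain ⟨o, ho⟩ := Finset.card_eq_one.mp (show (Finset.univ : Finset O).card = 1 by
          rw [Finset.card_univ]; omega)
        rw [ho, Finset.sum_singleton] at hsumO
        obtain ⟨hO, f, hf, e⟩ := horb (r o)
        have hc' := hc2 (r o)
        obtain ⟨d, hd⟩ : ∃ d, c (r o) = d + 1 := ⟨c (r o) - 1, by omega⟩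
        rw [hd, Nat.add_sub_cancel] at hsumO
        rw [hd] at e
        rcases hf with rfl | rfl <;> simp only [hsz] at hsumO <;> nlinarith
    rcases Nat.lt_or_ge (Fintype.card O) 3 with h3 | h3
    · obtain ⟨o1, o2, h12, ho⟩ := Finset.card_eq_two.mp (show (Finset.univ : Finset O).card = 2 by
        rw [Finset.card_univ]; omega)
      rw [ho, Finset.sum_pair h12] at hsumO
      obtain ⟨hO1, f1, hf1, e1⟩ := horb (r o1)
      obtain ⟨hO2, f2, hf2, e2⟩ := horb (r o2)
      obtain ⟨b1, b2⟩ := poles_two e1 e2 hf1 hf2 (hc2 _) (hc2 _) hO1 hO2 hsumO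
      have hm : ∀ o : O, c (r o) ≤ 3 := fun o => by
        have := hall (a := o)
        rw [ho, Finset.mem_insert, Finset.mem_singleton] at this
        rcases this with rfl | rfl <;> assumption
      exact ⟨fun o => (hm o).trans (by norm_num), fun _ o => by have := hm o; omega⟩
    · obtain ⟨o1, o2, o3, h12, h13, h23, ho⟩ := Finset.card_eq_three.mp
        (show (Finset.univ : Finset O).card = 3 by rw [Finset.card_univ]; omega)
      rw [ho, Finset.sum_insert (by simp [h12, h13]), Finset.sum_pair h23, ← add_assoc] at hsumO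
      obtain ⟨hO1, f1, hf1, e1⟩ := horb (r o1)
      obtain ⟨hO2, f2, hf2, e2⟩ := horb (r o2)
      obtain ⟨hO3, f3, hf3, e3⟩ := horb (r o3)
      obtain ⟨b1, b2, b3, b4⟩ := poles_three e1 e2 e3 hf1 hf2 hf3 (hc2 _) (hc2 _) (hc2 _)
        hO1 hO2 hO3 hsumO
      have hm : ∀ o : O, o = o1 ∨ o = o2 ∨ o = o3 := fun o => by
        have := hall (a := o)
        simpa [ho, Finset.mem_insert, Finset.mem_singleton] using this
      refine ⟨fun o => by rcases hm o with rfl | rfl | rfl <;> assumption, fun ⟨o, h4⟩ o' => ?_⟩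
      have := b4 (by rcases hm o with rfl | rfl | rfl <;> tauto)
      rcases hm o' with rfl | rfl | rfl <;> tauto
  have small : ∀ a : G, a ≠ 1 → ∃ o : O, orderOf a ∣ c (r o) ∧ orderOf a ≤ 5 ∧ 2 ≤ orderOf a := by
    intro a ha
    obtain ⟨o, ho⟩ := hord a ha
    have h0 := orderOf_pos a
    have h1 : orderOf a ≠ 1 := fun h => ha (orderOf_eq_one_iff.mp h)
    exact ⟨o, ho, (Nat.le_of_dvd (by have := hc2 (r o); omega) ho).trans (key.1 o), by omega⟩
  refine ⟨fun a => ?_, fun ⟨b, hb4, hb2⟩ a => ?_⟩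
  · by_cases ha : a = 1
    · exact Or.inl (by rw [ha, one_pow])
    obtain ⟨o, -, h5, h2⟩ := small a ha
    simp only [← orderOf_dvd_iff_pow_eq_one]
    interval_cases orderOf a <;> norm_num
  · by_cases ha : a = 1
    · exact Or.inl (by rw [ha, one_pow])
    obtain ⟨ob, hob, hb5, hb1⟩ := small b (fun h => hb2 (by rw [h, one_pow]))
    obtain ⟨oa, hoa, h5, h2⟩ := small a ha
    have hb : orderOf b = 4 := by
      have h4 := orderOf_dvd_of_pow_eq_one hb4
      have : ¬ orderOf b ∣ 2 := fun h => hb2 (orderOf_dvd_iff_pow_eq_one.mp h)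
      by_contra h
      have h' : orderOf b ∈ Nat.divisors 4 := Nat.mem_divisors.mpr ⟨h4, by norm_num⟩
      rw [show Nat.divisors 4 = {1, 2, 4} by decide] at h'
      simp only [Finset.mem_insert, Finset.mem_singleton] at h'
      rcases h' with h' | h' | h'
      · omega
      · exact this (by rw [h'])
      · exact h h'
    have hc4 : c (r ob) = 4 := by
      have := key.1 ob
      have := hc2 (r ob)
      rw [hb] at hob
      obtain ⟨d, hd⟩ := hob
      omega
    have hne5 := key.2 ⟨ob, hc4⟩ oa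
    have hca := key.1 oa
    have : orderOf a ≠ 5 := fun h => by
      rw [h] at hoa
      obtain ⟨d, hd⟩ := hoa
      have := hc2 (r oa)
      omega
    simp only [← orderOf_dvd_iff_pow_eq_one]
    interval_cases orderOf a <;> first | (exact absurd rfl this) | norm_num

end Cfsg.Lib.Linear.FrameNine
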