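import Cfsg.Agent.Lib.Linear.FrameNine.Rot

/-!
# Rotations of order the characteristic, and the group they generate on a three-space
-/

set_option autoImplicit false

namespace Cfsg.Lib.Linear.FrameNine

open Module Cfsg.Lib.Linear.Orth
open scoped Matrix

variable {ι : Type} [Fintype ι] [DecidableEq ι] {F : Type*} [Field F]
  {Q : (ι → F) → F} {B : LinearMap.BilinForm F (ι → F)} {b : Fin 3 → (ι → F)}

/-- Coordinates for a hyperbolic pair and its perpendicular in the triple. -/
structure Wfz (Q : (ι → F) → F) (B : LinearMap.BilinForm F (ι → F)) (b : Fin 3 → (ι → F))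
    (w f z : ι → F) : Prop where
  hyp : Hyp Q B (tspan b) w f
  memZ : z ∈ tspan b
  wz : B w z = 0
  fz : B f z = 0
  zne : Q z ≠ 0
  expand : ∀ y ∈ tspan b, y = B f y • w + B w y • f + (B z y / B z z) • z

section

variable (D : Tri Q B b)

include D

theorem Tri.exists_wfz {w f : ι → F} (h : Hyp Q B (tspan b) w f) : ∃ z, Wfz Q B b w f z := by
  have C := D.space
  have hnd : NDeg B (perp2 B (tspan b) w f) := h.ndeg C D.nd
  obtain ⟨z, hz, hQz⟩ := exists_nonsing C hnd fun h0 => by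
    have := h.le_finrank C
    rw [h0, finrank_bot, D.dim] at this
    omega
  obtain ⟨hzU, hwz, hfz⟩ := mem_perp2.mp hz
  have hww := C.self_zero h.singE
  have hff := C.self_zero h.singF
  have hwf := h.pair
  have hfw := h.pair' C
  have hzw : B z w = 0 := by rw [C.symm, hwz]
  have hzf : B z f = 0 := by rw [C.symm, hfz]
  have hzz : B z z ≠ 0 := by rw [C.self]; exact mul_ne_zero D.two hQz
  have hli : LinearIndependent F ![w, f, z] := by
    rw [Fintype.linearIndependent_iff]
    intro c hc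
    simp only [Fin.sum_univ_three, Matrix.cons_val_zero, Matrix.cons_val_one, Matrix.cons_val] at hc
    have h0 := congrArg (B f) hc
    have h1 := congrArg (B w) hc
    have h2 := congrArg (B z) hc
    simp only [map_add, map_smul, map_zero, hww, hff, hwf, hfw, hwz, hfz, hzw, hzf, smul_eq_mul,
      mul_zero, mul_one, add_zero, zero_add] at h0 h1 h2
    intro i
    fin_cases i
    exacts [h0, h1, (mul_eq_zero.mp h2).resolve_right hzz]
  have hle : Submodule.span F (Set.range ![w, f, z]) ≤ tspan b :=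
    Submodule.span_le.mpr (by rintro _ ⟨i, rfl⟩; fin_cases i; exacts [h.memE, h.memF, hzU])
  have heq := Submodule.eq_of_le_of_finrank_eq hle (by
    rw [finrank_span_eq_card hli, Fintype.card_fin, D.dim])
  refine ⟨z, h, hzU, hwz, hfz, hQz, fun y hy => ?_⟩
  rw [← heq] at hy
  obtain ⟨c, rfl⟩ := (Submodule.mem_span_range_iff_exists_fun F).mp hy
  simp only [Fin.sum_univ_three, Matrix.cons_val_zero, Matrix.cons_val_one, Matrix.cons_val,
    map_add, map_smul, hww, hff, hwf, hfw, hwz, hfz, hzw, hzf, smul_eq_mul, mul_zero, mul_one,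
    add_zero, zero_add]
  rw [mul_div_cancel_right₀ _ hzz]

end

/-- A rotation with the characteristic as order is a Siegel element. -/
theorem IsRot.of_pow_char (D : Tri Q B b) {g : GL ι F} (hg : IsRot Q B b g) (p : ℕ)
    [Fact p.Prime] [CharP F p] (hgp : g ^ p = 1) (hg1 : g ≠ 1) :
    ∃ w a, w ∈ tspan b ∧ a ∈ tspan b ∧ w ≠ 0 ∧ Q w = 0 ∧ B w a = 0 ∧
      a ∉ Submodule.span F {w} ∧ g = sGL Q B w a := by
  classical
  have C := D.space
  haveI : Nonempty ι := by
    by_contra h
    rw [not_nonempty_iff] at h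
    exact D.ne 0 (by rw [Subsingleton.elim (b 0) 0, C.zero])
  set N : Matrix ι ι F := g.val - 1 with hN
  have hNp : N ^ p = 0 := by
    rw [hN, sub_pow_char_of_commute p (Commute.one_right _), one_pow,
      ← Units.val_pow_eq_pow_val, hgp, Units.val_one, sub_self]
  have hNv : ∀ y, N *ᵥ y = g.val *ᵥ y - y := fun y => by
    rw [hN, Matrix.sub_mulVec, Matrix.one_mulVec]
  obtain ⟨y, hy⟩ : ∃ y, N *ᵥ y ≠ 0 := by
    by_contra h
    push Not at h
    refine hg1 (gl_ext fun y => ?_)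
    have := h y
    rw [hNv, sub_eq_zero] at this
    rw [this, Units.val_one, Matrix.one_mulVec]
  have hex : ∃ k, N ^ k *ᵥ y = 0 := ⟨p, by rw [hNp, Matrix.zero_mulVec]⟩
  have hk := Nat.find_spec hex
  have hk0 : Nat.find hex ≠ 0 := fun h => hy (by
    rw [h, pow_zero, Matrix.one_mulVec] at hk
    rw [hk, Matrix.mulVec_zero])
  have hk1 : Nat.find hex ≠ 1 := fun h => hy (by rwa [h, pow_one] at hk)
  obtain ⟨m, hm⟩ : ∃ m, Nat.find hex = m + 2 := ⟨Nat.find hex - 2, by omega⟩
  set z0 := N ^ m *ᵥ y with hz0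
  set w := N *ᵥ z0 with hw
  have hw0 : w ≠ 0 := by
    rw [hw, hz0, Matrix.mulVec_mulVec, ← pow_succ']
    exact Nat.find_min hex (by omega)
  have hgw : g.val *ᵥ w = w := by
    rw [hm] at hk
    have h := hk
    rw [pow_succ', pow_succ', ← Matrix.mulVec_mulVec, ← Matrix.mulVec_mulVec, ← hz0, ← hw, hNv,
      sub_eq_zero] at h
    exact h
  have hwU : w ∈ tspan b := by rw [hw, hNv]; exact hg.sub_mem' D _
  have hQw : Q w = 0 := by
    have h : B w (N *ᵥ z0) = 0 := by
      rw [hNv, map_sub, sub_eq_zero]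
      conv_lhs => rw [← hgw]
      rw [C.B_act hg.iso]
    rw [← hw, C.self] at h
    exact (mul_eq_zero.mp h).resolve_left D.two
  obtain ⟨f, hf⟩ := exists_hyp C D.nd hwU hw0 hQw
  obtain ⟨z, Z⟩ := D.exists_wfz hf
  set K := Q z with hK
  have hK0 : K ≠ 0 := Z.zne
  have hzz : B z z = 2 * K := C.self z
  have hww := C.self_zero hQw
  have hff := C.self_zero hf.singF
  have hwf := hf.pair
  have hfw := hf.pair' C
  have hzw : B z w = 0 := by rw [C.symm, Z.wz]
  have hzf : B z f = 0 := by rw [C.symm, Z.fz]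
  obtain ⟨α, μ, hgz⟩ : ∃ α μ : F, g.val *ᵥ z = α • w + μ • z := by
    have h0 : B w (g.val *ᵥ z) = 0 := by
      conv_lhs => rw [← hgw]
      rw [C.B_act hg.iso, Z.wz]
    have h := Z.expand _ (hg.mem D Z.memZ)
    rw [h0, zero_smul, add_zero] at h
    exact ⟨_, _, h⟩
  have hμ2 : μ ^ 2 = 1 := by
    have h := mem_iso.mp hg.iso z
    rw [hgz, C.smul_add, hQw, Z.wz] at h
    refine mul_right_cancel₀ hK0 ?_
    linear_combination h
  have hpow : ∀ k : ℕ, ∃ c : F, (g ^ k).val *ᵥ z = c • w + μ ^ k • z := by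
    intro k
    induction k with
    | zero => exact ⟨0, by simp⟩
    | succ k ih =>
      obtain ⟨c, hc⟩ := ih
      refine ⟨c + μ ^ k * α, ?_⟩
      rw [pow_succ', mul_act, hc, Matrix.mulVec_add, Matrix.mulVec_smul, Matrix.mulVec_smul, hgw,
        hgz]
      module
  have hμ : μ = 1 := by
    obtain ⟨c, hc⟩ := hpow p
    rw [hgp, Units.val_one, Matrix.one_mulVec] at hc
    have h := congrArg (B z) hc
    rw [map_add, map_smul, map_smul, hzw, smul_zero, zero_add, smul_eq_mul, hzz] at h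
    have hp1 : μ ^ p = 1 := by
      refine mul_right_cancel₀ (mul_ne_zero D.two hK0) ?_
      linear_combination -h
    rcases sq_eq_one_iff.mp hμ2 with e | e
    · exact e
    · have hodd : Odd p := (Fact.out : p.Prime).odd_of_ne_two fun h2 => D.two (by
        subst h2; exact_mod_cast CharP.cast_eq_zero F 2)
      rw [e, hodd.neg_one_pow] at hp1
      exact absurd (by linear_combination -hp1) D.two
  rw [hμ, one_smul] at hgz
  obtain ⟨β, γ, hgf⟩ : ∃ β γ : F, g.val *ᵥ f = β • w + f + γ • z := by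
    have h0 : B w (g.val *ᵥ f) = 1 := by
      conv_lhs => rw [← hgw]
      rw [C.B_act hg.iso, hwf]
    have h := Z.expand _ (hg.mem D hf.memF)
    rw [h0, one_smul] at h
    exact ⟨_, _, h⟩
  have hβ : β + γ ^ 2 * K = 0 := by
    have h := mem_iso.mp hg.iso f
    rw [hgf, C.add, C.add, C.smul, C.smul, hQw, hf.singF] at h
    simp only [map_add, map_smul, LinearMap.add_apply, LinearMap.smul_apply, smul_eq_mul, hwf,
      Z.wz, Z.fz] at h
    linear_combination h
  have hα : α + 2 * K * γ = 0 := by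
    have h := C.B_act hg.iso z f
    rw [hgz, hgf, hzf] at h
    simp only [map_add, map_smul, LinearMap.add_apply, LinearMap.smul_apply, smul_eq_mul, hwf,
      hww, Z.wz, hzw, hzf, hzz] at h
    linear_combination h
  have hwγ : B w (γ • z) = 0 := by rw [map_smul, Z.wz, smul_zero]
  have hs := sGL_act C hQw hwγ
  have e : g = sGL Q B w (γ • z) := gl_ext fun x => by
    have hp := D.proj_perp x
    have h1 : g.val *ᵥ (x - D.proj x) = x - D.proj x := hg.fix_perp D hp
    have h2 : (sGL Q B w (γ • z)).val *ᵥ (x - D.proj x) = x - D.proj x := by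
      rw [hs, hp _ hwU, map_smul, LinearMap.smul_apply, hp _ Z.memZ]
      simp
    have hb : ∀ {h : GL ι F}, h.val *ᵥ w = w → h.val *ᵥ f = β • w + f + γ • z →
        h.val *ᵥ z = α • w + z → h.val *ᵥ D.proj x = B f (D.proj x) • w +
          B w (D.proj x) • (β • w + f + γ • z) + (B z (D.proj x) / B z z) • (α • w + z) := by
      intro h a1 a2 a3
      conv_lhs => rw [Z.expand _ (D.proj_mem x)]
      rw [Matrix.mulVec_add, Matrix.mulVec_add, Matrix.mulVec_smul, Matrix.mulVec_smul,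
        Matrix.mulVec_smul, a1, a2, a3]
    have h3 : g.val *ᵥ D.proj x = (sGL Q B w (γ • z)).val *ᵥ D.proj x := by
      rw [hb hgw hgf hgz, hb ?_ ?_ ?_]
      · rw [hs, hww, C.symm (γ • z) w, hwγ]
        simp
      · rw [hs, C.smul, map_smul, LinearMap.smul_apply, hzf, hwf, ← hK]
        rw [eq_neg_of_add_eq_zero_left hβ]
        simp only [smul_zero, one_smul, mul_one, zero_add]
        module
      · rw [hs, Z.wz, map_smul, LinearMap.smul_apply, hzz]
        rw [eq_neg_of_add_eq_zero_left hα]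
        simp only [zero_smul, mul_zero, add_zero, smul_eq_mul]
        module
    calc g.val *ᵥ x = g.val *ᵥ (D.proj x + (x - D.proj x)) := by rw [add_sub_cancel]
      _ = _ := by rw [Matrix.mulVec_add, h1, h3, ← h2, ← Matrix.mulVec_add, add_sub_cancel]
  refine ⟨w, γ • z, hwU, Submodule.smul_mem _ _ Z.memZ, hw0, hQw, hwγ, fun hsp => ?_, e⟩
  obtain ⟨c, hc⟩ := Submodule.mem_span_singleton.mp hsp
  have h := congrArg (B z) hc
  rw [map_smul, map_smul, hzw, smul_zero, hzz, smul_eq_mul] at h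
  have hγ : γ = 0 := (mul_eq_zero.mp h.symm).resolve_right (mul_ne_zero D.two hK0)
  refine hg1 (gl_ext fun x => ?_)
  rw [e, hs, hγ]
  simp [C.zero]

section Gen

variable (C : Space Q B) {H : Subgroup (GL ι F)} (hpr : ∀ c : F, ∃ m : ℕ, c = (m : F))

include C hpr

/-- Over the prime field the root group of a centre and an axis is generated by one element. -/
theorem sGL_mem_smul {u a : ι → F} (hu : Q u = 0) (hua : B u a = 0) (h : sGL Q B u a ∈ H)
    (c : F) : sGL Q B u (c • a) ∈ H := by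
  obtain ⟨m, rfl⟩ := hpr c
  induction m with
  | zero =>
    rw [Nat.cast_zero, zero_smul]
    have h1 : sGL Q B u (0 : ι → F) = 1 := gl_ext fun x => by
      rw [sGL_act C hu (map_zero _), C.zero]; simp
    rw [h1]; exact one_mem H
  | succ m ih =>
    rw [Nat.cast_succ, add_smul, one_smul, ← sGL_mul C hu (by rw [map_smul, hua, smul_zero]) hua]
    exact mul_mem ih h

/-- Two non-perpendicular root elements generate the root group of the triple. -/
theorem Tri.root_le (D : Tri Q B b) {w a w' a' : ι → F} (hw : w ∈ tspan b) (ha : a ∈ tspan b)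
    (hQw : Q w = 0) (hwa : B w a = 0) (haw : a ∉ Submodule.span F {w}) (hH : sGL Q B w a ∈ H)
    (hw' : w' ∈ tspan b) (ha' : a' ∈ tspan b) (hQw' : Q w' = 0) (hwa' : B w' a' = 0)
    (haw' : a' ∉ Submodule.span F {w'}) (hH' : sGL Q B w' a' ∈ H) (hne : B w w' ≠ 0) :
    Root Q B (tspan b) ≤ H := by
  set t := B w w' with ht
  obtain ⟨f, hf'⟩ : ∃ f, f = t⁻¹ • w' := ⟨_, rfl⟩
  have hwf' : w' = t • f := by rw [hf', smul_smul, mul_inv_cancel₀ hne, one_smul]
  have hf : Hyp Q B (tspan b) w f := ⟨hw, by rw [hf']; exact Submodule.smul_mem _ _ hw', hQw,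
    by rw [hf', C.smul, hQw', mul_zero],
    by rw [hf', map_smul, ← ht, smul_eq_mul, inv_mul_cancel₀ hne]⟩
  obtain ⟨z, Z⟩ := D.exists_wfz hf
  have hww := C.self_zero hQw
  have hff := C.self_zero hf.singF
  have hW : ∀ c : F, sGL Q B w (c • z) ∈ H := by
    set γ := B z a / B z z with hγ'
    have hexp := Z.expand a ha
    rw [hwa, zero_smul, add_zero, ← hγ', add_comm] at hexp
    have hγ : γ ≠ 0 := fun h => haw (Submodule.mem_span_singleton.mpr ⟨B f a, by
      conv_rhs => rw [hexp, h, zero_smul, zero_add]⟩)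
    have hwγ : B w (γ • z) = 0 := by rw [map_smul, Z.wz, smul_zero]
    rw [hexp, sGL_add_self C hQw hwγ] at hH
    intro c
    have := sGL_mem_smul C hpr hQw hwγ hH (c * γ⁻¹)
    rwa [smul_smul, mul_assoc, inv_mul_cancel₀ hγ, mul_one] at this
  have hF : ∀ c : F, sGL Q B f (c • z) ∈ H := by
    have hfa : B f a' = 0 := by rw [hf', map_smul, LinearMap.smul_apply, hwa', smul_zero]
    rw [hwf', sGL_smul C hf.singF hfa] at hH'
    set a2 := t • a' with ha2
    have hfa2 : B f a2 = 0 := by rw [ha2, map_smul, hfa, smul_zero]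
    set γ := B z a2 / B z z with hγ'
    have hexp := Z.expand a2 (Submodule.smul_mem _ _ ha')
    rw [hfa2, zero_smul, zero_add, ← hγ', add_comm] at hexp
    have hγ : γ ≠ 0 := fun h => haw' (Submodule.mem_span_singleton.mpr ⟨t⁻¹ * (B w a2 * t⁻¹), by
      rw [h, zero_smul, zero_add, ha2] at hexp
      rw [hwf', smul_smul, show t⁻¹ * (B w a2 * t⁻¹) * t = t⁻¹ * B w a2 by field_simp,
        ← smul_smul, ← hexp, smul_smul, inv_mul_cancel₀ hne, one_smul]⟩)
    have hfγ : B f (γ • z) = 0 := by rw [map_smul, Z.fz, smul_zero]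
    rw [hexp, sGL_add_self C hf.singF hfγ] at hH'
    intro c
    have := sGL_mem_smul C hpr hf.singF hfγ hH' (c * γ⁻¹)
    rwa [smul_smul, mul_assoc, inv_mul_cancel₀ hγ, mul_one] at this
  have axW : ∀ a ∈ tspan b, B w a = 0 → sGL Q B w a ∈ H := by
    intro a ha hwa
    have hexp := Z.expand a ha
    rw [hwa, zero_smul, add_zero, add_comm] at hexp
    rw [hexp, sGL_add_self C hQw (by rw [map_smul, Z.wz, smul_zero])]
    exact hW _
  have axF : ∀ a ∈ tspan b, B f a = 0 → sGL Q B f a ∈ H := by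
    intro a ha hfa
    have hexp := Z.expand a ha
    rw [hfa, zero_smul, zero_add, add_comm] at hexp
    rw [hexp, sGL_add_self C hf.singF (by rw [map_smul, Z.fz, smul_zero])]
    exact hF _
  refine (Subgroup.closure_le _).mpr ?_
  rintro _ ⟨u, c, hu, hc, hQu, huc, rfl⟩
  have hexp := Z.expand u hu
  set α := B f u
  set β := B w u
  set γ := B z u / B z z with hγ'
  have hQ : α * β + γ ^ 2 * Q z = 0 := by
    rw [hexp, C.add, C.smul_add, C.smul, hQw, hf.singF, hf.pair] at hQu
    simp only [map_add, map_smul, LinearMap.add_apply, LinearMap.smul_apply, smul_eq_mul, Z.wz,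
      Z.fz] at hQu
    linear_combination hQu
  by_cases hβ : β = 0
  · have hγ : γ = 0 := pow_eq_zero_iff two_ne_zero |>.mp
      ((mul_eq_zero.mp (by rw [hβ, mul_zero, zero_add] at hQ; exact hQ)).resolve_right Z.zne)
    rw [hβ, hγ, zero_smul, zero_smul, add_zero, add_zero] at hexp
    by_cases hα : α = 0
    · have h1 : sGL Q B u c = 1 := gl_ext fun x => by
        rw [sGL_act C hQu huc, hexp, hα]
        simp
      rw [h1]
      exact one_mem H
    have hwc : B w c = 0 := by
      rw [hexp, map_smul, LinearMap.smul_apply, smul_eq_mul] at huc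
      exact (mul_eq_zero.mp huc).resolve_left hα
    rw [hexp, sGL_smul C hQw hwc]
    exact axW _ (Submodule.smul_mem _ _ hc) (by rw [map_smul, hwc, smul_zero])
  set g := sGL Q B w ((γ / β) • z) with hg
  have hwg : B w ((γ / β) • z) = 0 := by rw [map_smul, Z.wz, smul_zero]
  have hgI : g ∈ isometryGroup F Q := sGL_mem C hQw hwg
  have hgU : ∀ {y}, y ∈ tspan b → (g⁻¹ : GL ι F).val *ᵥ y ∈ tspan b := fun hy =>
    root_mem_U C (inv_mem (sGL_mem_root hw (Submodule.smul_mem _ _ Z.memZ) hQw hwg)) hy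
  have hug : u = β • (g.val *ᵥ f) := by
    rw [hexp, hg, sGL_act C hQw hwg, C.smul, hf.pair, map_smul, LinearMap.smul_apply,
      C.symm z f, Z.fz]
    have hαe : α = -(γ ^ 2 * Q z) / β := by field_simp; linear_combination hQ
    rw [hαe]
    simp only [smul_zero, one_smul, mul_one, zero_add]
    match_scalars <;> field_simp
  have hfc : B (g.val *ᵥ f) c = 0 := by
    rw [hug, map_smul, LinearMap.smul_apply, smul_eq_mul] at huc
    exact (mul_eq_zero.mp huc).resolve_left hβ
  have hQgf : Q (g.val *ᵥ f) = 0 := by rw [mem_iso.mp hgI, hf.singF]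
  have hfc' : B f ((g⁻¹ : GL ι F).val *ᵥ (β • c)) = 0 := by
    rw [← C.B_act_left hgI, map_smul, hfc, smul_zero]
  rw [hug, sGL_smul C hQgf hfc,
    show β • c = g.val *ᵥ ((g⁻¹ : GL ι F).val *ᵥ (β • c)) from (act_inv _ _).symm,
    ← sGL_conj C hf.singF hfc' hgI]
  exact mul_mem (mul_mem (hW _) (axF _ (hgU (Submodule.smul_mem _ _ hc)) hfc')) (inv_mem (hW _))

end Gen

section Trans

variable [Finite F] (D : Tri Q B b)

include D

/-- Transitivity of the root group of a triple. -/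
theorem Tri.trans (h7 : 7 ≤ Nat.card F) (h3 : (3 : F) ≠ 0) {x y : ι → F} (hx : x ∈ tspan b)
    (hy : y ∈ tspan b) (hν : Q x ≠ 0) (hxy : Q y = Q x) :
    ∃ h ∈ Root Q B (tspan b), h.val *ᵥ x = y := by
  classical
  haveI := Fintype.ofFinite F
  have C := D.space
  have h2 := D.two
  obtain ⟨w, f, hf⟩ := exists_hyp' C D.nd (by rw [D.dim])
  obtain ⟨z, Z⟩ := D.exists_wfz hf
  set ν := Q x with hνdef
  set K := Q z with hK
  have hK0 : K ≠ 0 := Z.zne
  have hzz : B z z = 2 * K := C.self z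
  have hww := C.self_zero hf.singE
  have hff := C.self_zero hf.singF
  have hwf := hf.pair
  have hfw := hf.pair' C
  have hzw : B z w = 0 := by rw [C.symm, Z.wz]
  have hzf : B z f = 0 := by rw [C.symm, Z.fz]
  set R := K * ν with hR
  have hR0 : R ≠ 0 := mul_ne_zero hK0 hν
  have actW : ∀ c a β γ : F, (sGL Q B w (c • z)).val *ᵥ (a • w + β • f + γ • z)
      = (a - 2 * K * c * γ - c ^ 2 * K * β) • w + β • f + (γ + c * β) • z := by
    intro c a β γ
    rw [sGL_act C hf.singE (by rw [map_smul, Z.wz, smul_zero]), C.smul]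
    simp only [map_add, map_smul, LinearMap.smul_apply, smul_eq_mul, hww, hwf, Z.wz, hzw, hzf, hzz]
    module
  have actF : ∀ c a β γ : F, (sGL Q B f (c • z)).val *ᵥ (a • w + β • f + γ • z)
      = a • w + (β - 2 * K * c * γ - c ^ 2 * K * a) • f + (γ + c * a) • z := by
    intro c a β γ
    rw [sGL_act C hf.singF (by rw [map_smul, Z.fz, smul_zero]), C.smul]
    simp only [map_add, map_smul, LinearMap.smul_apply, smul_eq_mul, hff, hfw, Z.fz, hzw, hzf, hzz]
    module
  have gW : ∀ c : F, sGL Q B w (c • z) ∈ Root Q B (tspan b) := fun c =>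
    sGL_mem_root hf.memE (Submodule.smul_mem _ _ Z.memZ) hf.singE
      (by rw [map_smul, Z.wz, smul_zero])
  have gF : ∀ c : F, sGL Q B f (c • z) ∈ Root Q B (tspan b) := fun c =>
    sGL_mem_root hf.memF (Submodule.smul_mem _ _ Z.memZ) hf.singF
      (by rw [map_smul, Z.fz, smul_zero])
  let d : F → ι → F := fun β => (ν / β) • w + β • f + (0 : F) • z
  let Rel : F → Prop := fun μ => ∀ β ≠ 0, ∃ h ∈ Root Q B (tspan b), h.val *ᵥ d β = d (μ * β)
  have rinv : ∀ μ ≠ 0, Rel μ → Rel μ⁻¹ := by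
    intro μ hμ h β hβ
    obtain ⟨g, hg, hgd⟩ := h (μ⁻¹ * β) (mul_ne_zero (inv_ne_zero hμ) hβ)
    rw [← mul_assoc, mul_inv_cancel₀ hμ, one_mul] at hgd
    exact ⟨g⁻¹, inv_mem hg, by rw [← hgd, inv_act]⟩
  have rmul : ∀ μ μ', μ' ≠ 0 → Rel μ → Rel μ' → Rel (μ * μ') := by
    intro μ μ' hμ' h h' β hβ
    obtain ⟨g, hg, hgd⟩ := h' β hβ
    obtain ⟨g', hg', hgd'⟩ := h (μ' * β) (mul_ne_zero hμ' hβ)
    exact ⟨g' * g, mul_mem hg' hg, by rw [mul_act, hgd, hgd', mul_assoc]⟩
  have base : ∀ m : F, 1 - R * m ^ 2 ≠ 0 → Rel (1 - R * m ^ 2) := by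
    intro m hm β hβ
    set β' := (1 - R * m ^ 2) * β with hβ'
    have hβ'0 : β' ≠ 0 := mul_ne_zero hm hβ
    refine ⟨sGL Q B w ((-(m * ν) / β') • z) * sGL Q B f ((m * β) • z),
      mul_mem (gW _) (gF _), ?_⟩
    simp only [d]
    rw [mul_act, actF, actW]
    have e1 : β - 2 * K * (m * β) * 0 - (m * β) ^ 2 * K * (ν / β) = β' := by
      rw [hβ', hR]; field_simp; ring
    have e2 : 0 + m * β * (ν / β) = m * ν := by field_simp; ring
    have e3 : ν / β - 2 * K * (-(m * ν) / β') * (m * ν) - (-(m * ν) / β') ^ 2 * K * β' = ν / β' := by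
      field_simp
      rw [hβ', hR]; ring
    have e4 : m * ν + -(m * ν) / β' * β' = 0 := by field_simp; ring
    rw [e1, e2, e3, e4]
  have rsq : ∀ μ ≠ 0, Rel (μ ^ 2) := by
    intro μ hμ
    obtain ⟨u, hu, hu'⟩ : ∃ u : F, u ≠ 0 ∧
        (u ^ 2 + (μ ^ 2 - 1) / R) ^ 2 - 4 * μ ^ 2 / R * u ^ 2 ≠ 0 := by
      by_contra h
      push Not at h
      let P : Polynomial F := (Polynomial.X ^ 2 + Polynomial.C ((μ ^ 2 - 1) / R)) ^ 2 -
        Polynomial.C (4 * μ ^ 2 / R) * Polynomial.X ^ 2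
      have hdeg : P.natDegree ≤ 4 := by simp only [P]; compute_degree
      have hP0 : P ≠ 0 := fun h0 => by
        have e : P = Polynomial.X ^ 4 +
            Polynomial.C (2 * ((μ ^ 2 - 1) / R) - 4 * μ ^ 2 / R) * Polynomial.X ^ 2 +
            Polynomial.C (((μ ^ 2 - 1) / R) ^ 2) := by
          simp only [P, map_sub, map_mul, map_pow, map_ofNat]; ring
        rw [e] at h0
        have := congrArg (fun q => Polynomial.coeff q 4) h0
        rw [Polynomial.coeff_add, Polynomial.coeff_add, Polynomial.coeff_X_pow_self,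
          Polynomial.coeff_C_mul, Polynomial.coeff_X_pow, Polynomial.coeff_C,
          Polynomial.coeff_zero] at this
        simp at this
      have hsub : ((Finset.univ : Finset F).erase 0).val ⊆ P.roots := fun u hu => by
        rw [Polynomial.mem_roots hP0]
        simpa [P] using h u (Finset.mem_erase.mp hu).1
      have h1 := Polynomial.card_le_degree_of_subset_roots hsub
      rw [Finset.card_erase_of_mem (Finset.mem_univ _), Finset.card_univ,
        ← Nat.card_eq_fintype_card] at h1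
      omega
    set l := (u + (μ ^ 2 - 1) / R / u) / (2 * μ) with hl
    have e : 1 - R * (μ * l - u) ^ 2 = μ ^ 2 * (1 - R * l ^ 2) := by
      rw [hl]; field_simp; ring
    have hl0 : 1 - R * l ^ 2 ≠ 0 := fun h0 => hu' (by
      have e' : (u ^ 2 + (μ ^ 2 - 1) / R) ^ 2 - 4 * μ ^ 2 / R * u ^ 2
          = -(4 * μ ^ 2 / R * u ^ 2) * (1 - R * l ^ 2) := by
        rw [hl]; field_simp; ring
      rw [e', h0, mul_zero])
    have h1 : Rel (μ ^ 2 * (1 - R * l ^ 2)) := e ▸ base _ (e ▸ mul_ne_zero (pow_ne_zero 2 hμ) hl0)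
    have := rmul _ _ (inv_ne_zero hl0) h1 (rinv _ hl0 (base l hl0))
    rwa [mul_assoc, mul_inv_cancel₀ hl0, mul_one] at this
  have rall : ∀ μ ≠ 0, Rel μ := by
    intro μ hμ
    suffices key : ∃ l ≠ 0, Rel (μ * l ^ 2) by
      obtain ⟨l, hl, hk⟩ := key
      have := rmul _ _ (inv_ne_zero (pow_ne_zero 2 hl)) hk (rinv _ (pow_ne_zero 2 hl) (rsq l hl))
      rwa [mul_assoc, mul_inv_cancel₀ (pow_ne_zero 2 hl), mul_one] at this
    by_cases hsq : ∃ ρ, ρ ^ 2 = R
    · obtain ⟨ρ, hρ⟩ := hsq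
      have hρ0 : ρ ≠ 0 := fun h => hR0 (by rw [← hρ, h]; ring)
      have sol : ∀ τ : F, τ ≠ 0 → 1 + τ ≠ 0 → ∃ l ≠ 0, Rel (τ * l ^ 2) := by
        intro τ hτ h1
        refine ⟨-2 / (1 + τ), div_ne_zero (neg_ne_zero.mpr h2) h1, ?_⟩
        have e : 1 - R * ((1 + -2 / (1 + τ)) / ρ) ^ 2 = τ * (-2 / (1 + τ)) ^ 2 := by
          rw [← hρ]; field_simp; ring
        rw [← e]
        exact base _ (e ▸ mul_ne_zero hτ (pow_ne_zero 2 (div_ne_zero (neg_ne_zero.mpr h2) h1)))
      by_cases h1 : 1 + μ = 0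
      · obtain ⟨l, hl, hk⟩ := sol (-4) (neg_ne_zero.mpr (by
            rw [show (4 : F) = 2 * 2 by norm_num]; exact mul_ne_zero h2 h2))
          (fun h => h3 (by linear_combination -h))
        refine ⟨2 * l, mul_ne_zero h2 hl, ?_⟩
        rwa [eq_neg_of_add_eq_zero_right h1, show -(1 : F) * (2 * l) ^ 2 = -4 * l ^ 2 by ring]
      · exact sol μ hμ h1
    · obtain ⟨m, l, hml⟩ := exists_conic h2 hR0 hμ 1
      have hl : l ≠ 0 := fun h => hsq ⟨R * m, by
        rw [h] at hml
        linear_combination R * hml⟩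
      have e : 1 - R * m ^ 2 = μ * l ^ 2 := by linear_combination -hml
      exact ⟨l, hl, e ▸ base m (e ▸ mul_ne_zero hμ (pow_ne_zero 2 hl))⟩
  have reach : ∀ u ∈ tspan b, Q u = ν →
      ∃ h ∈ Root Q B (tspan b), ∃ β ≠ 0, h.val *ᵥ u = d β := by
    have step : ∀ a β γ : F, β ≠ 0 → a * β + γ ^ 2 * K = ν →
        ∃ h ∈ Root Q B (tspan b), h.val *ᵥ (a • w + β • f + γ • z) = d β := by
      intro a β γ hβ hQ
      refine ⟨_, gW (-γ / β), ?_⟩
      rw [actW]
      simp only [d]
      rw [← hQ]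
      match_scalars <;> field_simp <;> ring
    intro u hu hQu
    have hexp := Z.expand u hu
    set a := B f u
    set β := B w u
    set γ := B z u / B z z
    have hQ : a * β + γ ^ 2 * K = ν := by
      rw [hexp, C.add, C.smul_add, C.smul, hf.singE, hf.singF, hwf] at hQu
      simp only [map_add, map_smul, LinearMap.add_apply, LinearMap.smul_apply, smul_eq_mul, Z.wz,
        Z.fz] at hQu
      linear_combination hQu
    by_cases hβ : β = 0
    · rw [hβ, mul_zero, zero_add] at hQ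
      have hγ : γ ≠ 0 := fun h => hν (by rw [← hQ, h]; ring)
      obtain ⟨c, hc⟩ : ∃ c : F, β - 2 * K * c * γ - c ^ 2 * K * a ≠ 0 := by
        by_contra h
        push Not at h
        have h1 := h 1
        have h1' := h (-1)
        exact mul_ne_zero (mul_ne_zero h2 h2) (mul_ne_zero hK0 hγ)
          (by linear_combination h1' - h1)
      obtain ⟨g, hg, hgd⟩ := step a (β - 2 * K * c * γ - c ^ 2 * K * a) (γ + c * a) hc (by
        rw [hβ]; linear_combination hQ)
      refine ⟨g * sGL Q B f (c • z), mul_mem hg (gF c), _, hc, ?_⟩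
      rw [mul_act, hexp, actF, hgd]
    · obtain ⟨g, hg, hgd⟩ := step a β γ hβ hQ
      exact ⟨g, hg, β, hβ, by rw [hexp, hgd]⟩
  obtain ⟨g, hg, β, hβ, hgx⟩ := reach x hx rfl
  obtain ⟨g', hg', β', hβ', hgy⟩ := reach y hy hxy
  obtain ⟨k, hk, hkd⟩ := rall (β' / β) (div_ne_zero hβ' hβ) β hβ
  rw [div_mul_cancel₀ _ hβ] at hkd
  exact ⟨g'⁻¹ * k * g, mul_mem (mul_mem (inv_mem hg') hk) hg,
    by rw [mul_act, mul_act, hgx, hkd, ← hgy, inv_act]⟩

end Trans

/-- An isometry stabilising `U` normalises its root group. -/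
theorem root_conj_of_mapsTo (C : Space Q B) {U : Submodule F (ι → F)} {g h : GL ι F}
    (hg : g ∈ isometryGroup F Q) (hgU : ∀ y ∈ U, g.val *ᵥ y ∈ U) (hh : h ∈ Root Q B U) :
    g * h * g⁻¹ ∈ Root Q B U := by
  refine Subgroup.closure_induction (p := fun h _ => g * h * g⁻¹ ∈ Root Q B U) ?_ ?_ ?_ ?_ hh
  · rintro _ ⟨u, a, hu, ha, h1, h2, rfl⟩
    rw [sGL_conj C h1 h2 hg]
    exact sGL_mem_root (hgU u hu) (hgU a ha) (by rw [mem_iso.mp hg, h1]) (by rw [C.B_act hg, h2])
  · simp
  · intro a c _ _ ha hc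
    rw [show g * (a * c) * g⁻¹ = (g * a * g⁻¹) * (g * c * g⁻¹) by group]
    exact mul_mem ha hc
  · intro a _ ha
    rw [show g * a⁻¹ * g⁻¹ = (g * a * g⁻¹)⁻¹ by group]
    exact inv_mem ha

end Cfsg.Lib.Linear.FrameNine
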